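import Groth.Agent.PolLib.Points
import Groth.Agent.PolLib.Chi
import Groth.Agent.TraceEtale.Basic
import Groth.Prelude.Def_PolLaw2

/-!
The norm law of a finite etale algebra has zero kernel, and is the only law of its degree whose
kernel consists of nilpotents.
-/

universe u

open scoped TensorProduct
open Polynomial

namespace Groth.Agent.H23.EtaleLaw

open PolLaw Groth.Agent.PolLib

variable {A B : Type u} [CommRing A] [CommRing B] [Algebra A B]

theorem norm_pi_fun {R : Type u} [CommRing R] {n : ℕ} (v : Fin n → R) :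
    Algebra.norm R v = ∏ i, v i := by
  classical
  rw [Algebra.norm_eq_matrix_det (Pi.basisFun R (Fin n)),
    show Algebra.leftMulMatrix (Pi.basisFun R (Fin n)) v = Matrix.diagonal v from ?_,
    Matrix.det_diagonal]
  ext i j
  rw [Algebra.leftMulMatrix_eq_repr_mul, Pi.basisFun_repr, Matrix.diagonal_apply, Pi.basisFun_apply,
    Pi.mul_apply, Pi.single_apply, mul_ite, mul_one, mul_zero]

theorem evl_id_law_eq [Module.Free A B] [Module.Finite A B] {d : ℕ} (N : MulLaw A B A d)
    (hN : ∀ (S : Type u) [CommRing S] [Algebra A S] (x : S ⊗[A] B),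
      N.law.toFun' S x = Algebra.norm S x ⊗ₜ[A] (1 : A))
    (R : Type u) [CommRing R] [Algebra A R] (x : R ⊗[A] B) :
    evl N (Algebra.ofId A R) x = Algebra.norm R x := by
  rw [evl, show ev N R x = _ from hN R x, mu_tmul, map_one, mul_one]

theorem ker_normLaw [Module.Free A B] [Module.Finite A B] [Algebra.Etale A B] {d : ℕ}
    (N : MulLaw A B A d)
    (hN : ∀ (S : Type u) [CommRing S] [Algebra A S] (x : S ⊗[A] B),
      N.law.toFun' S x = Algebra.norm S x ⊗ₜ[A] (1 : A)) :
    PolLaw.ker N.law = ⊥ := by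
  refine eq_bot_iff.mpr fun b hb => Ideal.mem_bot.mpr ?_
  refine ((TraceEtale.etale_iff_bijective_traceForm A B).1 inferInstance).1 ?_
  rw [map_zero]
  refine LinearMap.ext fun c => ?_
  have h := evl_add_of_mem_ker N hb (Algebra.ofId A A[X]) 1 ((X : A[X]) ⊗ₜ[A] c)
  rw [evl_one, evl_id_law_eq N hN, Algebra.TensorProduct.tmul_mul_tmul, mul_one,
    show (X : A[X]) ⊗ₜ[A] (c * b) = (X : A[X]) • ((1 : A[X]) ⊗ₜ[A] (c * b)) by
      rw [TensorProduct.smul_tmul', smul_eq_mul, mul_one]] at h
  obtain ⟨r, hr⟩ := Algebra.norm_one_add_smul (X : A[X]) ((1 : A[X]) ⊗ₜ[A] (c * b))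
  rw [hr] at h
  have htr : Algebra.trace A[X] (A[X] ⊗[A] B) ((1 : A[X]) ⊗ₜ[A] (c * b)) =
      algebraMap A A[X] (Algebra.trace A B (c * b)) := by
    rw [Algebra.trace_apply, Algebra.trace_apply, ← LinearMap.trace_baseChange]
    congr 1
    ext x
    simp
  rw [htr] at h
  have h1 := congrArg (Polynomial.coeff · 1) h
  simp only [coeff_add, coeff_one, Polynomial.algebraMap_apply, Algebra.algebraMap_self,
    RingHom.id_apply, coeff_C_mul, coeff_X_one, mul_one] at h1
  rw [coeff_mul_X_pow'] at h1
  simpa [mul_comm] using h1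

/-- A polynomial with `P(X) P(Y) = P(XY)` has idempotent coefficients. -/
theorem coeff_idem {R : Type u} [CommRing R] (P : R[X])
    (hP : ∀ (S : Type u) [CommRing S] [Algebra R S] (u v : S),
      aeval u P * aeval v P = aeval (u * v) P) (j : ℕ) :
    IsIdempotentElem (P.coeff j) := by
  classical
  have h := hP (R[X])[X] (Polynomial.C Polynomial.X) Polynomial.X
  have e1 : aeval (Polynomial.C (Polynomial.X : R[X])) P = Polynomial.C P := by
    conv_rhs => rw [← aeval_X_left_apply P]
    exact aeval_algebraMap_apply (R[X])[X] (Polynomial.X : R[X]) P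
  have e2 : aeval (Polynomial.X : (R[X])[X]) P = P.map (algebraMap R R[X]) := by
    rw [aeval_def, map, IsScalarTower.algebraMap_eq R R[X] (R[X])[X]]
    rfl
  rw [e1, e2] at h
  have h2 := congrArg (fun q => (q.coeff j).coeff j) h
  rw [coeff_C_mul, coeff_map, Polynomial.algebraMap_apply, coeff_mul_C, Algebra.algebraMap_self,
    RingHom.id_apply, aeval_eq_sum_range' (lt_max_of_lt_left (Nat.lt_succ_self _) :
      P.natDegree < max (P.natDegree + 1) (j + 1)), finsetSum_coeff, finsetSum_coeff,
    Finset.sum_eq_single j] at h2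
  · rw [mul_pow, ← Polynomial.C_pow, coeff_smul, coeff_C_mul, coeff_X_pow_self, mul_one,
      coeff_smul, coeff_X_pow_self, smul_eq_mul, mul_one] at h2
    exact h2
  · intro k _ hk
    rw [mul_pow, ← Polynomial.C_pow, coeff_smul, coeff_C_mul, coeff_X_pow, if_neg (Ne.symm hk)]
    simp
  · intro hj
    exact absurd (Finset.mem_range.mpr (lt_max_of_lt_right (Nat.lt_succ_self _))) hj

/-- A polynomial with `P(X) P(Y) = P(XY)` which is `X` at every geometric point is `X`. -/
theorem eq_X_of_points {R : Type u} [CommRing R] (P : R[X])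
    (hP : ∀ (S : Type u) [CommRing S] [Algebra R S] (u v : S),
      aeval u P * aeval v P = aeval (u * v) P)
    (hpt : ∀ (K : Type u) [Field K] [IsAlgClosed K] [Algebra R K],
      P.map (algebraMap R K) = X) : P = X := by
  classical
  have key : ∀ a : R, IsIdempotentElem a →
      (∀ (p : Ideal R), p.IsPrime → a ∈ p) → a = 0 := by
    intro a ha h
    refine ha.eq_zero_of_isNilpotent ?_
    exact nilpotent_iff_mem_prime.mpr h
  have hcoeff : ∀ (p : Ideal R), p.IsPrime → ∀ j,
      P.coeff j - (if j = 1 then 1 else 0) ∈ p := by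
    intro p hp j
    let K := AlgebraicClosure (FractionRing (R ⧸ p))
    let φ : R →+* K := (algebraMap (FractionRing (R ⧸ p)) K).comp
      ((algebraMap (R ⧸ p) (FractionRing (R ⧸ p))).comp (Ideal.Quotient.mk p))
    let : Algebra R K := φ.toAlgebra
    have h := congrArg (Polynomial.coeff · j) (hpt K)
    rw [coeff_map, coeff_X] at h
    have hk : φ (P.coeff j - if j = 1 then 1 else 0) = 0 := by
      rw [map_sub, sub_eq_zero]
      refine h.trans ?_
      rcases eq_or_ne j 1 with rfl | h1
      · rw [if_pos rfl, if_pos rfl, map_one]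
      · rw [if_neg h1, if_neg (Ne.symm h1), map_zero]
    replace hk : algebraMap (FractionRing (R ⧸ p)) K (algebraMap (R ⧸ p) (FractionRing (R ⧸ p))
      (Ideal.Quotient.mk p (P.coeff j - if j = 1 then 1 else 0))) = 0 := hk
    rw [map_eq_zero] at hk
    rw [map_eq_zero_iff _ (IsFractionRing.injective (R ⧸ p) (FractionRing (R ⧸ p)))] at hk
    exact Ideal.Quotient.eq_zero_iff_mem.mp hk
  ext j
  rw [coeff_X]
  rcases eq_or_ne j 1 with rfl | hj
  · rw [if_pos rfl, eq_comm, ← sub_eq_zero]
    refine key _ (coeff_idem P hP 1).one_sub fun p hp => ?_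
    have := neg_mem (hcoeff p hp 1)
    rw [if_pos rfl, neg_sub] at this
    exact this
  · rw [if_neg (Ne.symm hj)]
    refine key _ (coeff_idem P hP j) fun p hp => ?_
    simpa [hj] using hcoeff p hp j

section Split

variable {R : Type u} [CommRing R] [Algebra A R] {n d : ℕ} (E : R ⊗[A] B ≃ₐ[R] (Fin n → R))

/-- `1` off the `i`-th factor and `u` on it. -/
noncomputable def lin (i : Fin n) {R' : Type u} [CommRing R'] [Algebra A R'] (φ : R →ₐ[A] R')
    (u : R') : R' ⊗[A] B :=
  rB B φ (1 - E.symm (Pi.single i 1)) + u • rB B φ (E.symm (Pi.single i 1))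

theorem single_idem (i : Fin n) :
    E.symm (Pi.single i 1) * E.symm (Pi.single i 1) = E.symm (Pi.single i 1) := by
  rw [← map_mul, ← Pi.single_mul, one_mul]

theorem lin_mul (i : Fin n) {R' : Type u} [CommRing R'] [Algebra A R'] (φ : R →ₐ[A] R')
    (u v : R') : lin E i φ u * lin E i φ v = lin E i φ (u * v) := by
  have h := congrArg (rB B φ) (single_idem E i)
  rw [map_mul] at h
  simp only [lin, map_sub, map_one, Algebra.smul_def, map_mul]
  linear_combination (algebraMap R' (R' ⊗[A] B) u * algebraMap R' (R' ⊗[A] B) v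
    - algebraMap R' (R' ⊗[A] B) u - algebraMap R' (R' ⊗[A] B) v + 1) * h

theorem lin_rB (i : Fin n) {R' R'' : Type u} [CommRing R'] [Algebra A R'] [CommRing R'']
    [Algebra A R''] (φ : R →ₐ[A] R') (ψ : R' →ₐ[A] R'') (u : R') :
    rB B ψ (lin E i φ u) = lin E i (ψ.comp φ) (ψ u) := by
  rw [lin, lin, map_add, rB_smul, rB_rB, rB_rB]

theorem eq_prod_lin (x : R ⊗[A] B) :
    x = ∏ i, lin E i (AlgHom.id A R) (E x i) := by
  apply E.injective
  have hid : ∀ z : R ⊗[A] B, rB B (AlgHom.id A R) z = z := by
    intro z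
    induction z using TensorProduct.induction_on with
    | zero => simp
    | tmul a b => simp
    | add a b ha hb => rw [map_add, ha, hb]
  funext k
  simp only [lin, hid, map_prod, map_add, map_sub, map_one, map_smul, AlgEquiv.apply_symm_apply,
    Finset.prod_apply, Pi.add_apply, Pi.sub_apply, Pi.one_apply, Pi.smul_apply, smul_eq_mul]
  rw [Finset.prod_eq_single k]
  · simp
  · intro i _ hi
    simp [Pi.single_eq_of_ne (Ne.symm hi)]
  · simp

/-- The value of a law on `lin i X`. -/
noncomputable def pol (F : MulLaw A B A d) (i : Fin n) : R[X] :=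
  evl F (Algebra.ofId A R[X]) (lin E i (IsScalarTower.toAlgHom A R R[X]) X)

theorem evl_lin (F : MulLaw A B A d) (i : Fin n) {R' : Type u} [CommRing R'] [Algebra A R']
    [Algebra R R'] [IsScalarTower A R R'] (u : R') :
    evl F (Algebra.ofId A R') (lin E i (IsScalarTower.toAlgHom A R R') u) =
      aeval u (pol E F i) := by
  let ψ : R[X] →ₐ[A] R' := (aeval u : R[X] →ₐ[R] R').restrictScalars A
  have h1 : aeval u (pol E F i) = ψ (pol E F i) := rfl
  rw [h1, pol, ← evl_nat' F (Algebra.ofId A R[X]) ψ (Subsingleton.elim _ (Algebra.ofId A R')),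
    lin_rB]
  congr 2
  · exact AlgHom.ext fun r => ((aeval u : R[X] →ₐ[R] R').commutes r).symm
  · exact (aeval_X u).symm

include E in
theorem finrank_eq [Nontrivial R] [Module.Free A B] [Module.Finite A B] :
    Module.finrank A B = n := by
  have : Nontrivial A := (algebraMap A R).domain_nontrivial
  rw [← Module.finrank_baseChange (R := R) (S := A) (M' := B), E.toLinearEquiv.finrank_eq,
    Module.finrank_fin_fun]

variable [Module.Free A B] [Module.Finite A B]

theorem pol_eq_X (hd : Module.finrank A B = d) (F : MulLaw A B A d)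
    (hker : PolLaw.ker F.law ≤ nilradical B) (i : Fin n) : pol E F i = X := by
  classical
  refine eq_X_of_points _ (fun S _ _ u v => ?_) fun K _ _ _ => ?_
  · let : Algebra A S := ((algebraMap R S).comp (algebraMap A R)).toAlgebra
    have : IsScalarTower A R S := IsScalarTower.of_algebraMap_eq fun _ => rfl
    rw [← evl_lin, ← evl_lin, ← evl_lin, ← lin_mul, evl_mul]
  let : Algebra A K := ((algebraMap R K).comp (algebraMap A R)).toAlgebra
  have : IsScalarTower A R K := IsScalarTower.of_algebraMap_eq fun _ => rfl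
  have : Nontrivial R := (algebraMap R K).domain_nontrivial
  have hn : n = d := (finrank_eq E).symm.trans hd
  let ψ : R →ₐ[A] K := IsScalarTower.toAlgHom A R K
  let y : Fin n → (B →ₐ[A] K) := fun k =>
    ψ.comp (((Pi.evalAlgHom R (fun _ : Fin n => R) k).comp E.toAlgHom).restrictScalars A |>.comp
      Algebra.TensorProduct.includeRight)
  have hy : ∀ k (z : R ⊗[A] B), mu (y k) (rB B ψ z) = ψ (E z k) := by
    intro k z
    induction z using TensorProduct.induction_on with
    | zero => simp
    | add a b ha hb => rw [map_add, map_add, ha, hb, map_add, Pi.add_apply, map_add]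
    | tmul r b =>
      rw [rB_tmul, mu_tmul]
      show ψ r * ψ (E (1 ⊗ₜ[A] b) k) = ψ (E (r ⊗ₜ[A] b) k)
      rw [← map_mul, ← smul_eq_mul, ← Pi.smul_apply, ← map_smul, TensorProduct.smul_tmul',
        smul_eq_mul, mul_one]
  have hyinj : Function.Injective y := by
    intro k l h
    by_contra hne
    have h' := hy k (E.symm (Pi.single k 1))
    rw [h, hy, AlgEquiv.apply_symm_apply, Pi.single_eq_same, Pi.single_eq_of_ne (Ne.symm hne),
      map_zero, map_one] at h'
    exact zero_ne_one h'
  obtain ⟨x, hx⟩ := exists_points F (Algebra.ofId A K)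
  have hex : ∀ k, ∃ j, y k = x j := fun k => point_eq_of_kills_ker hx (y k) fun b hb =>
    ((mem_nilradical.mp (hker hb)).map (y k)).eq_zero
  choose σ hσ using hex
  have hσinj : Function.Injective σ := fun k l h => hyinj (by rw [hσ, hσ, h])
  have hσbij : Function.Bijective σ :=
    (Fintype.bijective_iff_injective_and_card σ).mpr ⟨hσinj, by simp [hn]⟩
  have h1 : (pol E F i).map (algebraMap R K) =
      evl F ((IsScalarTower.toAlgHom A K K[X]).comp (Algebra.ofId A K))
        (rB B (IsScalarTower.toAlgHom A K K[X]) (rB B ψ (1 - E.symm (Pi.single i 1))) +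
          (X : K[X]) • rB B (IsScalarTower.toAlgHom A K K[X]) (rB B ψ (E.symm (Pi.single i 1)))) := by
    let θ : R[X] →ₐ[A] K[X] := Polynomial.mapAlgHom ψ
    show θ (pol E F i) = _
    rw [pol, ← evl_nat' F (Algebra.ofId A R[X]) θ (Subsingleton.elim _ _), lin_rB, lin, rB_rB,
      rB_rB]
    have e : θ.comp (IsScalarTower.toAlgHom A R R[X]) =
        (IsScalarTower.toAlgHom A K K[X]).comp ψ := AlgHom.ext fun r => by
      simp [θ, ψ]
    rw [e, show θ X = (X : K[X]) by simp [θ]]
  rw [h1, hx, ← hσbij.prod_comp, Finset.prod_eq_single i]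
  · rw [← hσ, map_add, map_smul, mu_rB, hy, mu_rB, hy, map_sub, map_one, AlgEquiv.apply_symm_apply,
      Pi.sub_apply, Pi.single_eq_same, Pi.one_apply, sub_self, map_zero, map_zero, map_one, map_one,
      smul_eq_mul, mul_one, zero_add]
  · intro k _ hk
    rw [← hσ, map_add, map_smul, mu_rB, hy, mu_rB, hy, map_sub, map_one, AlgEquiv.apply_symm_apply,
      Pi.sub_apply, Pi.single_eq_of_ne hk, Pi.one_apply, sub_zero, map_one, map_one, map_zero,
      map_zero, smul_zero, add_zero]
  · simp

theorem evl_eq_norm (hd : Module.finrank A B = d) (F : MulLaw A B A d)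
    (hker : PolLaw.ker F.law ≤ nilradical B) (E : R ⊗[A] B ≃ₐ[R] (Fin n → R)) (x : R ⊗[A] B) :
    evl F (Algebra.ofId A R) x = Algebra.norm R x := by
  rw [← Algebra.norm_eq_of_algEquiv E x, norm_pi_fun]
  conv_lhs => rw [eq_prod_lin E x]
  rw [evl_prod]
  refine Finset.prod_congr rfl fun i _ => ?_
  have h := evl_lin E F i (R' := R) (E x i)
  rw [pol_eq_X E hd F hker i, aeval_X] at h
  convert h using 3
  exact AlgHom.ext fun _ => rfl

end Split

theorem eq_normLaw [Module.Free A B] [Module.Finite A B] [Algebra.Etale A B] {d : ℕ}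
    (hd : Module.finrank A B = d) (N : MulLaw A B A d)
    (hN : ∀ (S : Type u) [CommRing S] [Algebra A S] (x : S ⊗[A] B),
      N.law.toFun' S x = Algebra.norm S x ⊗ₜ[A] (1 : A))
    (F : MulLaw A B A d) (hker : PolLaw.ker F.law ≤ nilradical B) : F = N := by
  cases subsingleton_or_nontrivial A
  · refine mulLaw_ext fun S _ _ x => ?_
    have : Subsingleton S := (algebraMap A S).codomain_trivial
    have : Subsingleton (S ⊗[A] A) := (TensorProduct.rid A S).toEquiv.subsingleton
    exact Subsingleton.elim _ _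
  obtain ⟨T, _, _, _, _, _, hT⟩ := Algebra.IsFiniteSplit.exists_tensorProduct_of_etale
    (R := A) (S := B) (n := Module.finrank A B) (by
      rw [Module.rankAtStalk_eq_finrank_of_free])
  obtain ⟨n, ⟨e⟩⟩ := hT.nonempty_algEquiv_fun
  refine mulLaw_ext fun S _ _ x => ?_
  suffices h : evl F (Algebra.ofId A S) x = evl N (Algebra.ofId A S) x by
    rw [evl_eq_rid, evl_eq_rid] at h
    exact (TensorProduct.rid A S).injective h
  let S' := T ⊗[A] S
  let ι : S →ₐ[A] S' := Algebra.TensorProduct.includeRight
  have hι : Function.Injective ι := by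
    intro a b h
    exact Module.FaithfullyFlat.tensorProduct_mk_injective (A := A) (B := T) S h
  let E : S' ⊗[A] B ≃ₐ[S'] (Fin n → S') :=
    ((Algebra.TensorProduct.cancelBaseChange A T S' S' B).symm.trans
      (Algebra.TensorProduct.congr AlgEquiv.refl e)).trans
      (Algebra.TensorProduct.piScalarRight T S' S' (Fin n))
  apply hι
  rw [← evl_nat' F (Algebra.ofId A S) ι (Subsingleton.elim _ (Algebra.ofId A S')),
    ← evl_nat' N (Algebra.ofId A S) ι (Subsingleton.elim _ (Algebra.ofId A S')),
    evl_eq_norm hd F hker E, evl_id_law_eq N hN]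

end Groth.Agent.H23.EtaleLaw
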