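import Groth.Agent.PolLib.Points
import Groth.Agent.PolLib.Chi
import Groth.Prelude.Def_PolLaw2
import Mathlib

/-!
Multiplicative laws `K → k` of a finite field extension: uniqueness, and existence exactly in the
degrees divisible by the quasi-degree.
-/

universe u

open scoped TensorProduct
open Polynomial

namespace Groth.Agent.H23.FieldLaw

open PolLaw Groth.Agent.PolLib

section PolyLemmas

variable {k : Type u} [Field k] {W : Type u} [Field W] [IsAlgClosed W] [Algebra k W]

theorem eq_pow_of_roots {μ : k[X]} (hμi : Irreducible μ) (hμm : μ.Monic) :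
    ∀ (n : ℕ) (f : k[X]), f.Monic → f.natDegree = n →
      (∀ r : W, aeval r f = 0 → aeval r μ = 0) → ∃ c, f = μ ^ c := by
  intro n
  induction n using Nat.strong_induction_on with
  | _ n ih =>
    intro f hf hn hr
    by_cases h0 : f.natDegree = 0
    · exact ⟨0, by rw [pow_zero, hf.natDegree_eq_zero.mp h0]⟩
    have hdeg : f.degree ≠ 0 := fun h => h0 (natDegree_eq_zero_iff_degree_le_zero.mpr h.le)
    obtain ⟨r, hr'⟩ := IsAlgClosed.exists_aeval_eq_zero W f hdeg
    have hμ : μ = minpoly k r := minpoly.eq_of_irreducible_of_monic hμi (hr r hr') hμm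
    obtain ⟨f', rfl⟩ : μ ∣ f := hμ ▸ minpoly.dvd k r hr'
    have hf' : f'.Monic := hμm.of_mul_monic_left hf
    rw [hμm.natDegree_mul hf'] at hn
    have := hμi.natDegree_pos
    obtain ⟨c, rfl⟩ := ih f'.natDegree (by omega) f' hf' rfl
      (fun s hs => hr s (by rw [map_mul, hs, mul_zero]))
    exact ⟨c + 1, by rw [pow_succ']⟩

theorem separable_of_multiplicity {g : k[X]} {c : ℕ} (hc : (c : W) ≠ 0) {r : W} {Q : W[X]}
    (hg : g.map (algebraMap k W) = (X - C r) ^ c * Q) (hQ : Q.eval r ≠ 0) :
    IsIntegral k r → (minpoly k r).Separable := by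
  classical
  intro hr
  rw [separable_iff_derivative_ne_zero (minpoly.irreducible hr)]
  intro hν
  set ν := minpoly k r with hνdef
  have hg0 : g ≠ 0 := by
    rintro rfl
    rw [Polynomial.map_zero, eq_comm, mul_eq_zero] at hg
    rcases hg with h | h
    · exact pow_ne_zero _ (X_sub_C_ne_zero r) h
    · exact hQ (by rw [h, eval_zero])
  obtain ⟨n, h, hh, rfl⟩ := WfDvdMonoid.max_power_factor hg0 (minpoly.irreducible hr)
  rw [Polynomial.map_mul, Polynomial.map_pow] at hg
  have hp : Prime (X - C r) := prime_X_sub_C r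
  have hhr : ¬ (X - C r) ∣ h.map (algebraMap k W) := by
    rw [dvd_iff_isRoot, IsRoot, eval_map, ← aeval_def]
    exact fun e => hh (minpoly.dvd k r e)
  have h1 : (X - C r) ^ c ∣ (ν.map (algebraMap k W)) ^ n :=
    hp.pow_dvd_of_dvd_mul_right c hhr ⟨Q, hg⟩
  have hd := congrArg derivative hg
  rw [derivative_mul, derivative_pow, derivative_map, hν, Polynomial.map_zero, mul_zero, zero_mul,
    zero_add, derivative_mul, derivative_pow, derivative_sub, derivative_X, derivative_C,
    sub_zero, mul_one] at hd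
  have h2 : (X - C r) ^ c ∣ C (c : W) * (X - C r) ^ (c - 1) * Q := by
    rw [← dvd_add_left (dvd_mul_right ((X - C r) ^ c) (derivative Q)), ← hd]
    exact h1.mul_right _
  obtain ⟨c', rfl⟩ := Nat.exists_eq_succ_of_ne_zero (show c ≠ 0 by rintro rfl; simp at hc)
  rw [Nat.succ_sub_one, pow_succ, mul_comm (C _), mul_assoc,
    mul_dvd_mul_iff_left (pow_ne_zero _ (X_sub_C_ne_zero r)), dvd_iff_isRoot, IsRoot, eval_mul,
    eval_C] at h2
  exact (mul_eq_zero.mp h2).elim hc hQ

end PolyLemmas

variable {k : Type u} [Field k] {K : Type u} [Field K] [Algebra k K] [FiniteDimensional k K]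

local notation "Ωk" => AlgebraicClosure k
local notation "Emb" => K →ₐ[k] AlgebraicClosure k

theorem pow_mem_sep (q : ℕ) [ExpChar k q] :
    ∃ m, ∀ x : K, x ^ q ^ m ∈ separableClosure k K := by
  have : ExpChar (separableClosure k K) q :=
    expChar_of_injective_algebraMap (algebraMap k (separableClosure k K)).injective q
  refine ⟨IsPurelyInseparable.exponent (separableClosure k K) K, fun x => ?_⟩
  obtain ⟨y, hy⟩ := IsPurelyInseparable.exponent_def' (separableClosure k K) q x
  exact hy ▸ y.2

theorem eq_expChar_pow (q : ℕ) [ExpChar k q] (e : ℕ) (he : 0 < e)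
    (hexp : ∀ x : K, x ^ e ∈ separableClosure k K)
    (hmin : ∀ n : ℕ, 0 < n → (∀ x : K, x ^ n ∈ separableClosure k K) → e ≤ n) :
    ∃ a, e = q ^ a := by
  obtain ⟨n, hn⟩ := pow_mem_sep (k := k) (K := K) q
  rcases ‹ExpChar k q› with _ | hq
  · exact ⟨0, le_antisymm (hmin 1 one_pos fun x => by simpa using hn x) he⟩
  obtain ⟨a, r, hr, rfl⟩ := Nat.exists_eq_pow_mul_and_not_dvd he.ne' q hq.ne_one
  refine ⟨a, le_antisymm (hmin _ (pow_pos hq.pos a) fun x => ?_)
    (Nat.le_mul_of_pos_right _ (Nat.pos_of_ne_zero fun h => hr (h ▸ dvd_zero q)))⟩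
  set y := x ^ q ^ a
  have h1 : y ^ r ∈ separableClosure k K := by
    rw [← pow_mul]; exact hexp x
  have h2 : y ^ q ^ n ∈ separableClosure k K := hn y
  rcases eq_or_ne y 0 with h0 | h0
  · rw [h0]; exact zero_mem _
  have hco : Nat.gcd r (q ^ n) = 1 :=
    Nat.Coprime.pow_right n ((Nat.Prime.coprime_iff_not_dvd hq).mpr hr).symm
  have h3 := Nat.gcd_eq_gcd_ab r (q ^ n)
  rw [hco, Nat.cast_one] at h3
  rw [← zpow_one y, h3, zpow_add₀ h0, zpow_mul, zpow_mul, zpow_natCast, zpow_natCast]
  exact mul_mem (zpow_mem h1 _) (zpow_mem h2 _)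

theorem finrank_sep : Module.finrank k (separableClosure k K) = Field.finSepDegree k K := by
  rw [Field.finSepDegree_eq]
  rfl

theorem card_emb : Nat.card Emb = Field.finSepDegree k K := by
  rw [Field.finSepDegree_eq_of_isAlgClosed k K (AlgebraicClosure k)]

theorem exists_gen : ∃ α : K, IsSeparable k α ∧ (minpoly k α).natDegree = Field.finSepDegree k K ∧
    Function.Injective (fun σ : Emb => σ α) := by
  classical
  obtain ⟨α, hα⟩ := Field.exists_primitive_element k (separableClosure k K)
  have hint : IsIntegral k (α : K) := IsIntegral.of_finite k _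
  have hm : minpoly k (α : K) = minpoly k α :=
    minpoly.algebraMap_eq (algebraMap (separableClosure k K) K).injective α
  refine ⟨α, mem_separableClosure_iff.mp α.2, ?_, fun σ τ h => ?_⟩
  · rw [hm, ← finrank_sep, ← IntermediateField.adjoin.finrank (IsIntegral.of_finite k α), hα,
      IntermediateField.finrank_top']
  have hadj : Algebra.adjoin k {α} = ⊤ := by
    rw [← IntermediateField.adjoin_simple_toSubalgebra_of_isAlgebraic
      (IsIntegral.of_finite k α).isAlgebraic, hα, IntermediateField.top_toSubalgebra]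
  have hL : σ.comp (separableClosure k K).val = τ.comp (separableClosure k K).val := by
    refine AlgHom.ext_of_adjoin_eq_top hadj ?_
    intro x hx
    rw [Set.mem_singleton_iff] at hx
    subst hx
    exact h
  refine AlgHom.ext fun x => ?_
  obtain ⟨m, hm'⟩ := pow_mem_sep (k := k) (K := K) (ringExpChar k)
  have h1 := DFunLike.congr_fun hL ⟨x ^ ringExpChar k ^ m, hm' x⟩
  simp only [AlgHom.comp_apply, IntermediateField.coe_val, map_pow] at h1
  have : ExpChar Ωk (ringExpChar k) :=
    expChar_of_injective_algebraMap (algebraMap k Ωk).injective _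
  exact iterateFrobenius_inj Ωk (ringExpChar k) m h1

variable {d : ℕ}

theorem exists_const_mult (F : MulLaw k K k d) :
    ∃ c, Field.finSepDegree k K * c = d ∧
      ∀ (R : Type u) [CommRing R] [Algebra k R] (j : Ωk →ₐ[k] R) (z : R ⊗[k] K),
        evl F (j.comp (Algebra.ofId k Ωk)) z = (∏ σ : Emb, mu (j.comp σ) z) ^ c := by
  classical
  obtain ⟨x, hx⟩ := exists_points F (Algebra.ofId k Ωk)
  obtain ⟨α, hαs, hαd, hαi⟩ := exists_gen (k := k) (K := K)
  set μ := minpoly k α
  have hint : IsIntegral k α := IsIntegral.of_finite k _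
  set f := (-1) ^ d * chi F α
  have hfm : f.map (algebraMap k Ωk) = ∏ i, (X - C (x i α)) := by
    have h1 := charX_eq_prod F (Algebra.ofId k Ωk) x hx (AlgHom.id k Ωk)
      (rB K (Algebra.ofId k Ωk) ((1 : k) ⊗ₜ[k] α))
    rw [AlgHom.id_comp, charX_nat F (AlgHom.id k k) (Algebra.ofId k Ωk)
      (Subsingleton.elim _ (Algebra.ofId k Ωk))] at h1
    rw [Polynomial.map_mul, Polynomial.map_pow, Polynomial.map_neg, Polynomial.map_one,
      ← negOnePow_mul_prod]
    congr 1
    refine h1.trans (Finset.prod_congr rfl fun i _ => ?_)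
    simp
  obtain ⟨c, hc⟩ := eq_pow_of_roots (W := AlgebraicClosure k) (minpoly.irreducible hint) (minpoly.monic hint) _ f
    (chi_monic F α) rfl (fun r hr => by
      rw [aeval_def, ← eval_map, hfm, eval_prod, Finset.prod_eq_zero_iff] at hr
      obtain ⟨i, -, hi⟩ := hr
      rw [eval_sub, eval_X, eval_C, sub_eq_zero] at hi
      rw [hi, aeval_algHom_apply, minpoly.aeval, map_zero])
  have hroots : Finset.univ.val.map (fun i => x i α) = c • (μ.map (algebraMap k Ωk)).roots := by
    rw [← roots_pow, ← Polynomial.map_pow, ← hc, hfm, Finset.prod_eq_multiset_prod,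
      show (Finset.univ.val.map fun i => X - C (x i α)) =
        (Finset.univ.val.map fun i => x i α).map (fun a => X - C a) by rw [Multiset.map_map]; rfl,
      roots_multiset_prod_X_sub_C]
  have hsum : Field.finSepDegree k K * c = d := by
    have h := congrArg Multiset.card hroots
    rw [Multiset.card_map, Multiset.card_nsmul, IsAlgClosed.card_roots_eq_natDegree,
      natDegree_map, hαd] at h
    simpa [mul_comm] using h.symm
  refine ⟨c, hsum, fun R _ _ j z => ?_⟩
  have hμroots : (μ.map (algebraMap k Ωk)).roots.Nodup :=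
    nodup_roots (Polynomial.Separable.map hαs)
  have hxs : Finset.univ.val.map x = c • (Finset.univ : Finset Emb).val := by
    refine Multiset.ext.mpr fun σ => ?_
    rw [← Multiset.count_map_eq_count' (fun τ : Emb => τ α) _ hαi, Multiset.map_map,
      show ((fun τ : Emb => τ α) ∘ x) = fun i => x i α from rfl, hroots, Multiset.count_nsmul,
      Multiset.count_nsmul, Multiset.count_eq_one_of_mem Finset.univ.nodup (Finset.mem_univ _),
      Multiset.count_eq_one_of_mem hμroots]
    rw [mem_roots (map_ne_zero (minpoly.ne_zero hint)), IsRoot, eval_map, ← aeval_def,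
      aeval_algHom_apply, minpoly.aeval, map_zero]
  rw [hx, Finset.prod_eq_multiset_prod,
    show (Finset.univ.val.map fun i => mu (j.comp (x i)) z) =
      (Finset.univ.val.map x).map (fun σ : Emb => mu (j.comp σ) z) by rw [Multiset.map_map]; rfl,
    hxs, Multiset.map_nsmul, Multiset.prod_nsmul]
  rfl

theorem unique (F F' : MulLaw k K k d) : F = F' := by
  obtain ⟨c, hc, hF⟩ := exists_const_mult F
  obtain ⟨c', hc', hF'⟩ := exists_const_mult F'
  obtain rfl : c = c' :=
    Nat.eq_of_mul_eq_mul_left (Nat.pos_of_ne_zero (NeZero.ne (Field.finSepDegree k K)))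
      (hc.trans hc'.symm)
  refine mulLaw_ext fun S _ _ x => ?_
  suffices h : evl F (Algebra.ofId k S) x = evl F' (Algebra.ofId k S) x by
    rw [evl_eq_rid, evl_eq_rid] at h
    exact (TensorProduct.rid k S).injective h
  let j : Ωk →ₐ[k] Ωk ⊗[k] S := Algebra.TensorProduct.includeLeft
  let ι : S →ₐ[k] Ωk ⊗[k] S := Algebra.TensorProduct.includeRight
  refine (Algebra.TensorProduct.includeRight_injective (algebraMap k Ωk).injective :
    Function.Injective ι) ?_
  rw [← evl_nat' F (Algebra.ofId k S) ι (Subsingleton.elim _ (j.comp (Algebra.ofId k Ωk))),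
    ← evl_nat' F' (Algebra.ofId k S) ι (Subsingleton.elim _ (j.comp (Algebra.ofId k Ωk))),
    hF, hF']

theorem dvd_of_law (F : MulLaw k K k d) (e : ℕ) (he : 0 < e)
    (hexp : ∀ x : K, x ^ e ∈ separableClosure k K)
    (hmin : ∀ n : ℕ, 0 < n → (∀ x : K, x ^ n ∈ separableClosure k K) → e ≤ n) :
    Field.finSepDegree k K * e ∣ d := by
  classical
  obtain ⟨c, hcd, hF⟩ := exists_const_mult F
  rw [← hcd]
  refine mul_dvd_mul_left _ ?_
  by_cases hk : Finite k
  · have h1 : e ≤ 1 := hmin 1 one_pos fun x => by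
      rw [pow_one, mem_separableClosure_iff]
      exact Algebra.IsSeparable.isSeparable k x
    rw [le_antisymm h1 he]
    exact one_dvd c
  rw [not_finite_iff_infinite] at hk
  rcases Nat.eq_zero_or_pos c with rfl | hcpos
  · exact dvd_zero e
  obtain ⟨α, hαs, hαd, hαi⟩ := exists_gen (k := k) (K := K)
  obtain ⟨q, hq⟩ : ∃ q, ExpChar k q := ⟨ringExpChar k, inferInstance⟩
  have : ExpChar Ωk q := expChar_of_injective_algebraMap (algebraMap k Ωk).injective q
  have : ExpChar K q := expChar_of_injective_algebraMap (algebraMap k K).injective q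
  have : ExpChar Ωk[X] q := expChar_of_injective_ringHom Polynomial.C_injective q
  obtain ⟨a, c', hcc, hc'⟩ : ∃ a c', c = q ^ a * c' ∧ (c' : Ωk) ≠ 0 := by
    rcases hq with _ | hq'
    · refine ⟨0, c, by rw [pow_zero, one_mul], ?_⟩
      have : CharZero Ωk := charZero_of_injective_algebraMap (algebraMap k Ωk).injective
      exact Nat.cast_ne_zero.mpr hcpos.ne'
    · obtain ⟨a, c', hc', rfl⟩ := Nat.exists_eq_pow_mul_and_not_dvd hcpos.ne' q hq'.ne_one
      refine ⟨a, c', rfl, ?_⟩
      have : CharP Ωk q := charP_of_injective_algebraMap (algebraMap k Ωk).injective q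
      rwa [Ne, CharP.cast_eq_zero_iff Ωk q]
  obtain ⟨a₀, ha₀⟩ := eq_expChar_pow q e he hexp hmin
  have key : ∀ b : K, b ^ q ^ a ∈ separableClosure k K := by
    intro b
    have hfin : {t : k | ∃ σ τ : Emb, σ ≠ τ ∧
        algebraMap k Ωk t * (σ α - τ α) + (σ b - τ b) = 0}.Finite := by
      refine Set.Finite.subset (Set.finite_iUnion fun p : Emb × Emb =>
        (Set.Subsingleton.finite (?_ : {t : k | p.1 ≠ p.2 ∧
          algebraMap k Ωk t * (p.1 α - p.2 α) + (p.1 b - p.2 b) = 0}.Subsingleton)))
        fun t ⟨σ, τ, h⟩ => Set.mem_iUnion.mpr ⟨(σ, τ), h⟩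
      rintro t ⟨hne, ht⟩ t' ⟨-, ht'⟩
      apply (algebraMap k Ωk).injective
      have hne' : p.1 α - p.2 α ≠ 0 := sub_ne_zero.mpr fun h => hne (hαi h)
      refine mul_right_cancel₀ hne' ?_
      linear_combination ht - ht'
    obtain ⟨t, ht⟩ := hfin.exists_notMem
    set b' := b + t • α with hb'
    set β := b' ^ q ^ a with hβ
    have hinj : Function.Injective (fun σ : Emb => σ β) := by
      intro σ τ h
      by_contra hne
      refine ht ⟨σ, τ, hne, ?_⟩
      have h' : σ b' = τ b' := iterateFrobenius_inj Ωk q a (by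
        simpa [hβ, map_pow, iterateFrobenius_def] using h)
      simp only [hb', map_add, Algebra.smul_def] at h'
      simp only [map_mul, AlgHom.commutes] at h'
      linear_combination h'
    -- the descended power of the product
    let f := (-1) ^ d * chi F b'
    have hfm : f.map (algebraMap k Ωk) = expand Ωk (q ^ a) ((∏ σ : Emb, (X - C (σ β))) ^ c') := by
      have h1 := charX_nat F (AlgHom.id k k) (Algebra.ofId k Ωk)
        (Subsingleton.elim _ (Algebra.ofId k Ωk)) ((1 : k) ⊗ₜ[k] b')
      have h2 : charX F (Algebra.ofId k Ωk) (rB K (Algebra.ofId k Ωk) ((1 : k) ⊗ₜ[k] b')) =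
          (∏ σ : Emb, (C (σ b') - X)) ^ c := by
        rw [charX, show gX (Algebra.ofId k Ωk) = (IsScalarTower.toAlgHom k Ωk Ωk[X]).comp
          (Algebra.ofId k Ωk) from rfl, hF]
        congr 1
        refine Finset.prod_congr rfl fun σ _ => ?_
        rw [map_sub, rB_tmul, rB_tmul, mu_tmul, mu_tmul, map_one, map_one, map_one, one_mul,
          mul_one]
        rfl
      have h3 : f.map (algebraMap k Ωk) = (∏ σ : Emb, (X - C (σ b'))) ^ c := by
        rw [Polynomial.map_mul, Polynomial.map_pow, Polynomial.map_neg, Polynomial.map_one,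
          show (chi F b').map (algebraMap k Ωk) = _ from h1.symm.trans h2, ← hcd, pow_mul,
          ← mul_pow]
        congr 1
        rw [← card_emb, Nat.card_eq_fintype_card, ← Finset.card_univ, ← Finset.prod_const,
          ← Finset.prod_mul_distrib]
        exact Finset.prod_congr rfl fun σ _ => by ring
      rw [h3, hcc, pow_mul, map_pow, map_prod]
      congr 1
      rw [← Finset.prod_pow]
      refine Finset.prod_congr rfl fun σ _ => ?_
      rw [sub_pow_expChar_pow, map_sub, expand_X, expand_C, hβ, map_pow, map_pow]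
    obtain ⟨g, hg⟩ : ∃ g : k[X], g.map (algebraMap k Ωk) = (∏ σ : Emb, (X - C (σ β))) ^ c' := by
      rw [← Polynomial.mem_lifts, lifts_iff_coeff_lifts]
      intro n
      refine ⟨f.coeff (n * q ^ a), ?_⟩
      rw [← coeff_map, hfm, coeff_expand_mul (pow_pos (expChar_pos k q) a)]
    obtain ⟨σ₀⟩ : Nonempty Emb := ⟨IsAlgClosed.lift⟩
    have hsplit : g.map (algebraMap k Ωk) = (X - C (σ₀ β)) ^ c' *
        ∏ σ ∈ Finset.univ.erase σ₀, (X - C (σ β)) ^ c' := by
      rw [hg, ← Finset.prod_pow, ← Finset.mul_prod_erase _ _ (Finset.mem_univ σ₀)]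
    have hsep := separable_of_multiplicity hc' hsplit (by
      rw [eval_prod, Finset.prod_ne_zero_iff]
      intro σ hσ
      simp only [eval_pow, eval_sub, eval_X, eval_C]
      exact pow_ne_zero _ (sub_ne_zero.mpr fun h => (Finset.mem_erase.mp hσ).1 (hinj h.symm)))
      ((IsIntegral.of_finite k β).map σ₀)
    rw [minpoly.algHom_eq σ₀ σ₀.injective] at hsep
    have hβL : β ∈ separableClosure k K := mem_separableClosure_iff.mpr hsep
    have htL : (t • α) ^ q ^ a ∈ separableClosure k K :=
      pow_mem ((separableClosure k K).toSubalgebra.smul_mem (mem_separableClosure_iff.mpr hαs) t) _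
    have := sub_mem hβL htL
    rwa [hβ, hb', add_pow_expChar_pow, add_sub_cancel_right] at this
  have hle := hmin _ (pow_pos (expChar_pos k q) a) key
  rw [ha₀] at hle ⊢
  rw [hcc]
  rcases eq_or_ne q 1 with rfl | hq1
  · simp
  · exact Dvd.dvd.mul_right (pow_dvd_pow q
      ((Nat.pow_le_pow_iff_right (lt_of_le_of_ne (expChar_pos k q) (Ne.symm hq1))).mp hle)) _

section Existence

variable (q a : ℕ) [ExpChar k q]

omit [FiniteDimensional k K] in
theorem add_pow_q {S : Type u} [CommSemiring S] [Algebra k S] (x y : S) :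
    (x + y) ^ q ^ a = x ^ q ^ a + y ^ q ^ a := by
  rcases ‹ExpChar k q› with _ | hq
  · simp
  · obtain ⟨r, hr⟩ := exists_add_pow_prime_pow_eq hq x y a
    have h0 : (q : S) = 0 := by
      rw [← map_natCast (algebraMap k S) q, CharP.cast_eq_zero, map_zero]
    rw [hr, h0, zero_mul, zero_mul, zero_mul, add_zero]

variable (hexp : ∀ x : K, x ^ q ^ a ∈ separableClosure k K)

/-- `s ⊗ x ↦ s ^ e ⊗ x ^ e`. -/
noncomputable def phi (S : Type u) [CommSemiring S] [Algebra k S] :
    S ⊗[k] K →+ S ⊗[k] separableClosure k K :=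
  TensorProduct.liftAddHom (R := k)
    { toFun := fun s =>
        { toFun := fun x => (s ^ q ^ a) ⊗ₜ[k] (⟨x ^ q ^ a, hexp x⟩ : separableClosure k K)
          map_zero' := by
            rw [show (⟨(0 : K) ^ q ^ a, hexp 0⟩ : separableClosure k K) = 0 from
              Subtype.ext (zero_pow (pow_pos (expChar_pos k q) a).ne'), TensorProduct.tmul_zero]
          map_add' := fun x y => by
            rw [← TensorProduct.tmul_add]
            congr 1
            exact Subtype.ext (add_pow_q (k := k) q a x y) }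
      map_zero' := by
        ext x
        simp [zero_pow (pow_pos (expChar_pos k q) a).ne']
      map_add' := fun s t => by
        ext x
        simp [add_pow_q (k := k) q a, TensorProduct.add_tmul] }
    (fun r s x => by
      show ((r • s) ^ q ^ a) ⊗ₜ[k] _ = (s ^ q ^ a) ⊗ₜ[k] _
      rw [_root_.smul_pow, TensorProduct.smul_tmul]
      congr 1
      exact Subtype.ext (_root_.smul_pow r x (q ^ a)).symm)

theorem phi_tmul (S : Type u) [CommSemiring S] [Algebra k S] (s : S) (x : K) :
    phi q a hexp S (s ⊗ₜ[k] x) =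
      (s ^ q ^ a) ⊗ₜ[k] (⟨x ^ q ^ a, hexp x⟩ : separableClosure k K) := rfl

theorem phi_one (S : Type u) [CommSemiring S] [Algebra k S] : phi q a hexp S 1 = 1 := by
  rw [Algebra.TensorProduct.one_def, phi_tmul, one_pow, Algebra.TensorProduct.one_def]
  congr 1
  exact Subtype.ext (one_pow _)

theorem phi_mul (S : Type u) [CommSemiring S] [Algebra k S] (z w : S ⊗[k] K) :
    phi q a hexp S (z * w) = phi q a hexp S z * phi q a hexp S w := by
  induction z using TensorProduct.induction_on with
  | zero => simp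
  | add z₁ z₂ h₁ h₂ => simp only [add_mul, map_add, h₁, h₂]
  | tmul s x =>
    induction w using TensorProduct.induction_on with
    | zero => simp
    | add w₁ w₂ h₁ h₂ => simp only [mul_add, map_add, h₁, h₂]
    | tmul t y =>
      rw [Algebra.TensorProduct.tmul_mul_tmul, phi_tmul, phi_tmul, phi_tmul,
        Algebra.TensorProduct.tmul_mul_tmul, mul_pow]
      congr 1
      exact Subtype.ext (mul_pow x y _)

theorem phi_smul (S : Type u) [CommSemiring S] [Algebra k S] (s : S) (z : S ⊗[k] K) :
    phi q a hexp S (s • z) = s ^ q ^ a • phi q a hexp S z := by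
  induction z using TensorProduct.induction_on with
  | zero => simp
  | add z₁ z₂ h₁ h₂ => simp only [smul_add, map_add, h₁, h₂]
  | tmul t x =>
    rw [TensorProduct.smul_tmul', smul_eq_mul, phi_tmul, phi_tmul, TensorProduct.smul_tmul',
      smul_eq_mul, mul_pow]

theorem phi_nat {S S' : Type u} [CommSemiring S] [Algebra k S] [CommSemiring S'] [Algebra k S']
    (φ : S →ₐ[k] S') (z : S ⊗[k] K) :
    φ.toLinearMap.rTensor _ (phi q a hexp S z) =
      phi q a hexp S' (φ.toLinearMap.rTensor _ z) := by
  induction z using TensorProduct.induction_on with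
  | zero => simp
  | add z₁ z₂ h₁ h₂ => simp only [map_add, h₁, h₂]
  | tmul t x =>
    rw [LinearMap.rTensor_tmul, phi_tmul, phi_tmul, LinearMap.rTensor_tmul]
    simp

include hexp in
theorem exists_law (c : ℕ) :
    Nonempty (MulLaw k K k (Field.finSepDegree k K * q ^ a * c)) := by
  let N := PolLaw.normLaw k (separableClosure k K) (Field.finSepDegree k K) finrank_sep
  refine ⟨{
    law :=
      { toFun' := fun S _ _ z => ev N S (phi q a hexp S z) ^ c
        isCompat' := fun {S} _ _ {S'} _ _ φ => by
          funext z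
          simp only [Function.comp_apply]
          rw [← phi_nat, rTensor_eq_rB, map_pow, ev_nat, rTensor_eq_rB] }
    homog := fun S _ _ s z => ?_
    mult := fun S _ _ => ⟨?_, fun z w => ?_⟩ }⟩
  · show ev N S (phi q a hexp S (s • z)) ^ c = _ • ev N S (phi q a hexp S z) ^ c
    rw [phi_smul, ev_smul, _root_.smul_pow, ← pow_mul, ← pow_mul]
    congr 2
    ring
  · show ev N S (phi q a hexp S 1) ^ c = 1
    rw [phi_one, ev_one, one_pow]
  · show ev N S (phi q a hexp S (z * w)) ^ c = _
    rw [phi_mul, ev_mul, mul_pow]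

end Existence

end Groth.Agent.H23.FieldLaw
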