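import Groth.Prelude.Def_W4c5normfunctorschNorm
import Mathlib

/-! Universal normic pairs commute with base change. -/

universe u

open scoped TensorProduct
open PolLaw

namespace Groth.Agent.H23.NormicBC

variable {R : Type u} [CommRing R] {Q : Type u} [CommRing Q] [Algebra R Q]

section bs

variable {X Y : Type u} [AddCommGroup X] [Module R X] [AddCommGroup Y] [Module R Y] [Module Q Y]
  [IsScalarTower R Q Y]

/-- `p ⊗ x ↦ p ⊗ g x`, over test semirings. -/
noncomputable def bs (g : X →ₗ[R] Y) (P : Type u) [CommSemiring P] [Algebra R P] [Algebra Q P]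
    [IsScalarTower R Q P] : P ⊗[R] X →ₗ[P] P ⊗[Q] Y :=
  TensorProduct.AlgebraTensorModule.lift
    (LinearMap.toSpanSingleton P (X →ₗ[R] P ⊗[Q] Y)
      (((TensorProduct.mk Q P Y 1).restrictScalars R).comp g))

variable {P P₂ : Type u} [CommSemiring P] [Algebra R P] [Algebra Q P] [IsScalarTower R Q P]
  [CommSemiring P₂] [Algebra R P₂] [Algebra Q P₂] [IsScalarTower R Q P₂]

@[simp]
theorem bs_tmul (g : X →ₗ[R] Y) (p : P) (x : X) : bs (Q := Q) g P (p ⊗ₜ[R] x) = p ⊗ₜ[Q] g x := by
  simp [bs, TensorProduct.smul_tmul']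

theorem bs_nat (g : X →ₗ[R] Y) (ψ : P →ₐ[Q] P₂) (z : P ⊗[R] X) :
    ψ.toLinearMap.rTensor Y (bs (Q := Q) g P z) =
      bs (Q := Q) g P₂ ((ψ.restrictScalars R).toLinearMap.rTensor X z) := by
  induction z using TensorProduct.induction_on with
  | zero => simp
  | tmul p x => simp
  | add a b ha hb => simp only [map_add, ha, hb]

theorem bs_bijective {g : X →ₗ[R] Y} (hg : IsBaseChange Q g) : Function.Bijective (bs (Q := Q) g P) := by
  let e : P ⊗[R] X ≃ₗ[Q] P ⊗[Q] Y :=
    (TensorProduct.AlgebraTensorModule.cancelBaseChange R Q Q P X).symm.trans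
      (hg.equiv.lTensor P)
  have : ∀ z, bs (Q := Q) g P z = e z := by
    intro z
    induction z using TensorProduct.induction_on with
    | zero => simp
    | tmul p x => simp [e, IsBaseChange.equiv_tmul]
    | add a b ha hb => simp only [map_add, ha, hb]
  exact (funext this : ⇑(bs (Q := Q) g P) = ⇑e) ▸ e.bijective

/-- `bs` as an equivalence. -/
noncomputable def bsE {g : X →ₗ[R] Y} (hg : IsBaseChange Q g) (P : Type u) [CommSemiring P]
    [Algebra R P] [Algebra Q P] [IsScalarTower R Q P] : P ⊗[R] X ≃ₗ[P] P ⊗[Q] Y :=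
  LinearEquiv.ofBijective (bs (Q := Q) g P) (bs_bijective hg)

theorem bs_bcAlong (g : X →ₗ[R] Y) (P : Type u) [CommRing P] [Algebra R P] [Algebra Q P]
    [IsScalarTower R Q P] (z : P ⊗[R] X) : PolLaw.bcAlong g P z = bs (Q := Q) g P z := by
  induction z using TensorProduct.induction_on with
  | zero => simp
  | tmul p x => simp [PolLaw.bcAlong]
  | add a b ha hb => simp only [map_add, ha, hb]

end bs

section rho

variable {Y Z : Type u} [AddCommGroup Y] [Module R Y] [Module Q Y] [IsScalarTower R Q Y]
  [AddCommGroup Z] [Module R Z] [Module Q Z] [IsScalarTower R Q Z]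
variable {P P₂ : Type u} [CommSemiring P] [Algebra R P] [CommSemiring P₂] [Algebra R P₂]

variable (Y) in
/-- `(q ⊗ p) ⊗ y ↦ p ⊗ q y`. -/
noncomputable def rho (P : Type u) [CommSemiring P] [Algebra R P] :
    (Q ⊗[R] P) ⊗[Q] Y →ₗ[R] P ⊗[R] Y :=
  ((TensorProduct.comm R Y P).toLinearMap).comp
    (((TensorProduct.AlgebraTensorModule.cancelBaseChange R Q Q Y P).toLinearMap.restrictScalars R).comp
      ((TensorProduct.comm Q (Q ⊗[R] P) Y).toLinearMap.restrictScalars R))

@[simp]
theorem rho_tmul (q : Q) (p : P) (y : Y) :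
    rho Y P ((q ⊗ₜ[R] p) ⊗ₜ[Q] y) = p ⊗ₜ[R] (q • y) := by simp [rho]

theorem rho_nat (ψ : P →ₐ[R] P₂) (z : (Q ⊗[R] P) ⊗[Q] Y) :
    ψ.toLinearMap.rTensor Y (rho Y P z) =
      rho Y P₂ ((Algebra.TensorProduct.map (AlgHom.id Q Q) ψ).toLinearMap.rTensor Y z) := by
  induction z using TensorProduct.induction_on with
  | zero => simp
  | add a b ha hb => simp only [map_add, ha, hb]
  | tmul w y =>
    induction w using TensorProduct.induction_on with
    | zero => simp
    | add a b ha hb => simp only [TensorProduct.add_tmul, map_add, ha, hb]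
    | tmul q p => simp

theorem rho_lTensor (h : Y →ₗ[Q] Z) (z : (Q ⊗[R] P) ⊗[Q] Y) :
    (h.restrictScalars R).lTensor P (rho Y P z) = rho Z P (h.lTensor _ z) := by
  induction z using TensorProduct.induction_on with
  | zero => simp
  | add a b ha hb => simp only [map_add, ha, hb]
  | tmul w y =>
    induction w using TensorProduct.induction_on with
    | zero => simp
    | add a b ha hb => simp only [TensorProduct.add_tmul, map_add, ha, hb]
    | tmul q p => simp

theorem rho_smul (a : P) (z : (Q ⊗[R] P) ⊗[Q] Y) :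
    rho Y P (((1 : Q) ⊗ₜ[R] a) • z) = a • rho Y P z := by
  induction z using TensorProduct.induction_on with
  | zero => simp
  | add x y hx hy => simp only [smul_add, map_add, hx, hy]
  | tmul w y =>
    induction w using TensorProduct.induction_on with
    | zero => simp
    | add x y hx hy => simp only [TensorProduct.add_tmul, smul_add, map_add, hx, hy]
    | tmul q p =>
      rw [TensorProduct.smul_tmul', smul_eq_mul, Algebra.TensorProduct.tmul_mul_tmul, one_mul,
        rho_tmul, rho_tmul, TensorProduct.smul_tmul', smul_eq_mul]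

end rho

variable {R' Q' : Type u} [CommRing R'] [Algebra R R'] [CommRing Q'] [Algebra R Q'] [Algebra Q Q']
  [Algebra R' Q'] [IsScalarTower R Q Q'] [IsScalarTower R R' Q'] [hpush : Algebra.IsPushout R R' Q Q']

variable {M' M'' : Type u} [AddCommGroup M'] [Module R M'] [Module R' M'] [IsScalarTower R R' M']
  [AddCommGroup M''] [Module R M''] [Module R' M''] [Module Q M''] [Module Q' M'']
  [IsScalarTower R R' M''] [IsScalarTower R Q M''] [IsScalarTower R' Q' M''] [IsScalarTower Q Q' M'']

theorem isBaseChange_restrict (f : M' →ₗ[R'] M'') (hf : IsBaseChange Q' f) :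
    IsBaseChange Q (f.restrictScalars R) := by
  have : Algebra.IsPushout R Q R' Q' := Algebra.IsPushout.symm inferInstance
  let e : Q ⊗[R] M' ≃ₗ[Q] M'' :=
    (Algebra.IsPushout.cancelBaseChange R Q R' Q' M').symm.trans (hf.equiv.restrictScalars Q)
  refine IsBaseChange.of_equiv e fun x => ?_
  simp only [e, LinearEquiv.trans_apply]
  rw [show (Algebra.IsPushout.cancelBaseChange R Q R' Q' M').symm ((1 : Q) ⊗ₜ[R] x) =
    (1 : Q') ⊗ₜ[R'] x from by
      rw [LinearEquiv.symm_apply_eq, Algebra.IsPushout.cancelBaseChange_tmul]]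
  simp [IsBaseChange.equiv_tmul]

/-- The comparison of the algebras over a test ring. -/
theorem isBaseChange_alg :
    IsBaseChange Q ((Algebra.linearMap R' Q').restrictScalars R) := by
  have : Algebra.IsPushout R Q R' Q' := Algebra.IsPushout.symm inferInstance
  exact this.out

variable (R R' Q') in
/-- The structure map as a linear map over `R`. -/
abbrev gA : R' →ₗ[R] Q' := (Algebra.linearMap R' Q').restrictScalars R

theorem norm_bsA (P : Type u) [CommRing P] [Algebra R P] [Algebra Q P] [IsScalarTower R Q P]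
    (x : P ⊗[R] R') : Algebra.norm P (bs (Q := Q) (gA R R' Q') P x : P ⊗[Q] Q') = Algebra.norm P x := by
  have hmul : ∀ a b : P ⊗[R] R', bs (Q := Q) (gA R R' Q') P (a * b) = bs (Q := Q) (gA R R' Q') P a * bs (Q := Q) (gA R R' Q') P b := by
    intro a b
    induction a using TensorProduct.induction_on with
    | zero => simp
    | add a₁ a₂ h₁ h₂ => simp only [add_mul, map_add, h₁, h₂]
    | tmul p r =>
      induction b using TensorProduct.induction_on with
      | zero => simp
      | add b₁ b₂ h₁ h₂ => simp only [mul_add, map_add, h₁, h₂]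
      | tmul p' r' => simp [Algebra.TensorProduct.tmul_mul_tmul]
  let e : P ⊗[R] R' ≃ₐ[P] P ⊗[Q] Q' :=
    AlgEquiv.ofLinearEquiv (bsE isBaseChange_alg P)
      (by
        show bs (Q := Q) (gA R R' Q') P 1 = 1
        simp [Algebra.TensorProduct.one_def]) hmul
  exact Algebra.norm_eq_of_algEquiv e x

omit hpush in
theorem actEnd_bs (f : M' →ₗ[R'] M'') (P : Type u) [CommSemiring P] [Algebra R P] [Algebra Q P]
    [IsScalarTower R Q P] (x : P ⊗[R] R') (m : P ⊗[R] M') :
    bs (Q := Q) (f.restrictScalars R) P (actEnd M' P x m) =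
      actEnd M'' P (bs (Q := Q) (gA R R' Q') P x : P ⊗[Q] Q') (bs (Q := Q) (f.restrictScalars R) P m) := by
  induction x using TensorProduct.induction_on with
  | zero => simp
  | add a b ha hb => simp only [map_add, LinearMap.add_apply, ha, hb]
  | tmul p r =>
    induction m using TensorProduct.induction_on with
    | zero => simp
    | add a b ha hb => simp only [map_add, ha, hb]
    | tmul t m =>
      simp only [actEnd_tmul_tmul, bs_tmul, LinearMap.coe_restrictScalars, map_smul,
        Algebra.linearMap_apply, algebraMap_smul]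

variable [Module.Free R R'] [Module.Finite R R']

theorem norm_map {P P₂ : Type u} [CommRing P] [Algebra R P] [CommRing P₂] [Algebra R P₂]
    (ψ : P →ₐ[R] P₂) (x : P ⊗[R] R') :
    Algebra.norm P₂ (Algebra.TensorProduct.map ψ (AlgHom.id R R') x) = ψ (Algebra.norm P x) := by
  rw [← detAct_self, ← detAct_self, ← detAct_map (M := R') ψ x]

variable {N N'' : Type u} [AddCommGroup N] [Module R N] [AddCommGroup N''] [Module R N'']
  [Module Q N''] [IsScalarTower R Q N'']

/-- `ν''` read over `R`. -/
noncomputable def mu (f : M' →ₗ[R'] M'') (ν'' : M'' →ₚₗ[Q] N'') : M' →ₚₗ[R] N'' where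
  toFun' P _ _ m := rho N'' P (ν''.toFun' (Q ⊗[R] P)
    (bs (Q := Q) (f.restrictScalars R) (Q ⊗[R] P)
      ((Algebra.TensorProduct.includeRight : P →ₐ[R] Q ⊗[R] P).toLinearMap.rTensor M' m)))
  isCompat' {P} _ _ {P₂} _ _ ψ := by
    funext m
    simp only [Function.comp_apply]
    rw [rho_nat, ← Function.comp_apply (f := LinearMap.rTensor _ _), ν''.isCompat',
      Function.comp_apply, bs_nat, ← LinearMap.rTensor_comp_apply, ← LinearMap.rTensor_comp_apply]
    congr 4

theorem mu_normic (f : M' →ₗ[R'] M'') (ν'' : M'' →ₚₗ[Q] N'') (h : IsNormic Q' ν'') :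
    IsNormic R' (mu (R := R) f ν'') := by
  intro P _ _ x m
  set ι : P →ₐ[R] Q ⊗[R] P := Algebra.TensorProduct.includeRight with hι
  show rho N'' P (ν''.toFun' _ (bs (Q := Q) _ _ (ι.toLinearMap.rTensor M' (actEnd M' P x m)))) = _
  rw [rTensor_actEnd, actEnd_bs (Q' := Q'), h, norm_bsA, norm_map, hι,
    Algebra.TensorProduct.includeRight_apply, rho_smul]
  rfl

/-- Multiplication `Q ⊗ P → P`. -/
noncomputable def mlt (P : Type u) [CommSemiring P] [Algebra R P] [Algebra Q P]
    [IsScalarTower R Q P] : Q ⊗[R] P →ₐ[Q] P :=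
  Algebra.TensorProduct.lift (Algebra.ofId Q P) (AlgHom.id R P) fun _ _ => Commute.all _ _

theorem mu_compat (f : M' →ₗ[R'] M'') (ν'' : M'' →ₚₗ[Q] N'') (P : Type u) [CommSemiring P]
    [Algebra R P] [Algebra Q P] [IsScalarTower R Q P] (m : P ⊗[R] M') :
    bs (Q := Q) (LinearMap.id : N'' →ₗ[R] N'') P ((mu f ν'').toFun' P m) =
      ν''.toFun' P (bs (Q := Q) (f.restrictScalars R) P m) := by
  have h1 : ∀ z, bs (Q := Q) (LinearMap.id : N'' →ₗ[R] N'') P (rho N'' P z) =
      (mlt P).toLinearMap.rTensor N'' z := by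
    intro z
    induction z using TensorProduct.induction_on with
    | zero => simp
    | add a b ha hb => simp only [map_add, ha, hb]
    | tmul w y =>
      induction w using TensorProduct.induction_on with
      | zero => simp
      | add a b ha hb => simp only [TensorProduct.add_tmul, map_add, ha, hb]
      | tmul q p =>
        simp only [rho_tmul, bs_tmul, LinearMap.id_apply, LinearMap.rTensor_tmul,
          AlgHom.toLinearMap_apply, mlt, Algebra.TensorProduct.lift_tmul, AlgHom.id_apply,
          Algebra.ofId_apply, ← TensorProduct.smul_tmul, Algebra.smul_def]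
  show bs (Q := Q) _ P (rho N'' P _) = _
  rw [h1, ← Function.comp_apply (f := LinearMap.rTensor _ _), ν''.isCompat', Function.comp_apply,
    bs_nat, ← LinearMap.rTensor_comp_apply]
  congr 2
  conv_rhs => rw [← LinearMap.id_apply (R := R) m, ← LinearMap.rTensor_id]
  congr 2
  ext p
  simp [mlt]

section lam

variable (ν : M' →ₚₗ[R] N) {g : M' →ₗ[R] M''} (hg : IsBaseChange Q g)

/-- `ν` read over `Q`. -/
noncomputable def lam : M'' →ₚₗ[Q] Q ⊗[R] N where
  toFun' P _ _ y :=
    letI : Algebra R P := ((algebraMap Q P).comp (algebraMap R Q)).toAlgebra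
    letI : IsScalarTower R Q P := IsScalarTower.of_algebraMap_eq fun _ => rfl
    bs (Q := Q) (TensorProduct.mk R Q N 1) P (ν.toFun' P ((bsE hg P).symm y))
  isCompat' {P} _ _ {P₂} _ _ ψ := by
    funext y
    let _ : Algebra R P := ((algebraMap Q P).comp (algebraMap R Q)).toAlgebra
    have : IsScalarTower R Q P := IsScalarTower.of_algebraMap_eq fun _ => rfl
    let _ : Algebra R P₂ := ((algebraMap Q P₂).comp (algebraMap R Q)).toAlgebra
    have : IsScalarTower R Q P₂ := IsScalarTower.of_algebraMap_eq fun _ => rfl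
    obtain ⟨y, rfl⟩ := (bsE hg P).surjective y
    simp only [Function.comp_apply, LinearEquiv.symm_apply_apply]
    rw [bs_nat, ← Function.comp_apply (f := LinearMap.rTensor _ _), ν.isCompat',
      Function.comp_apply, show ψ.toLinearMap.rTensor M'' (bsE hg P y) =
        bsE hg P₂ ((ψ.restrictScalars R).toLinearMap.rTensor M' y) from bs_nat g ψ y,
      LinearEquiv.symm_apply_apply]

theorem lam_apply (P : Type u) [CommSemiring P] [inst : Algebra R P] [Algebra Q P]
    [IsScalarTower R Q P] (m : P ⊗[R] M') :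
    (lam ν hg).toFun' P (bs (Q := Q) g P m) = bs (Q := Q) (TensorProduct.mk R Q N 1) P (ν.toFun' P m) := by
  obtain rfl : inst = ((algebraMap Q P).comp (algebraMap R Q)).toAlgebra :=
    Algebra.algebra_ext _ _ fun r => IsScalarTower.algebraMap_apply R Q P r
  let _ : Algebra R P := ((algebraMap Q P).comp (algebraMap R Q)).toAlgebra
  show bs (Q := Q) (TensorProduct.mk R Q N 1) P (ν.toFun' P ((bsE hg P).symm (bsE hg P m))) = _
  rw [LinearEquiv.symm_apply_apply]

end lam

theorem lam_normic (f : M' →ₗ[R'] M'') (hf : IsBaseChange Q' f) (ν : M' →ₚₗ[R] N)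
    (hν : IsNormic R' ν) : IsNormic (N := Q ⊗[R] N) Q' (lam ν (isBaseChange_restrict f hf)) := by
  intro P _ _ x y
  let _ : Algebra R P := ((algebraMap Q P).comp (algebraMap R Q)).toAlgebra
  have : IsScalarTower R Q P := IsScalarTower.of_algebraMap_eq fun _ => rfl
  obtain ⟨x, rfl⟩ := (bsE (isBaseChange_alg (R := R) (R' := R') (Q := Q) (Q' := Q')) P).surjective x
  obtain ⟨m, rfl⟩ := (bsE (isBaseChange_restrict (R := R) (Q := Q) f hf) P).surjective y
  show (lam ν _).toFun' P (actEnd M'' P (bs (Q := Q) (gA R R' Q') P x) (bs (Q := Q) (f.restrictScalars R) P m)) =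
    Algebra.norm P (bs (Q := Q) (gA R R' Q') P x : P ⊗[Q] Q') • (lam ν _).toFun' P (bs (Q := Q) (f.restrictScalars R) P m)
  rw [← actEnd_bs (Q' := Q'), lam_apply, lam_apply, hν, map_smul, norm_bsA]

theorem main (f : M' →ₗ[R'] M'') (hf : IsBaseChange Q' f) (ν : M' →ₚₗ[R] N)
    (hν : IsUnivNormic R' ν) (ν'' : M'' →ₚₗ[Q] N'') (hν'' : IsUnivNormic Q' ν'') :
    ∃ u : N →ₗ[R] N'',
      (∀ (P : Type u) [CommRing P] [Algebra R P] [Algebra Q P] [IsScalarTower R Q P]
        (m : P ⊗[R] M'),
          ν''.toFun' P (PolLaw.bcAlong (f.restrictScalars R) P m) =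
            PolLaw.bcAlong u P (ν.toFun' P m)) ∧ IsBaseChange Q u := by
  obtain ⟨u, hu, -⟩ := hν.2 N'' (mu f ν'') (mu_normic f ν'' hν''.1)
  have hcompat : ∀ (P : Type u) [CommSemiring P] [Algebra R P] [Algebra Q P] [IsScalarTower R Q P]
      (m : P ⊗[R] M'),
      ν''.toFun' P (bs (Q := Q) (f.restrictScalars R) P m) = bs (Q := Q) u P (ν.toFun' P m) := by
    intro P _ _ _ _ m
    rw [← mu_compat, show (mu f ν'').toFun' P m = u.lTensor P (ν.toFun' P m) by rw [← hu]; rfl]
    generalize ν.toFun' P m = z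
    induction z using TensorProduct.induction_on with
    | zero => simp
    | tmul p n => simp
    | add a b ha hb => simp only [map_add, ha, hb]
  have hg := isBaseChange_restrict (R := R) (Q := Q) f hf
  obtain ⟨φ, hφ, -⟩ := hν''.2 _ (lam ν hg) (lam_normic f hf ν hν.1)
  refine ⟨u, fun P _ _ _ _ m => by rw [bs_bcAlong, bs_bcAlong, hcompat], ?_⟩
  obtain ⟨φ₀, -, huniq⟩ := hν''.2 N'' ν'' hν''.1
  have hid : (u.liftBaseChange Q) ∘ₗ φ = LinearMap.id := by
    have h1 : postcomp (LinearMap.id : N'' →ₗ[Q] N'') ν'' = ν'' := by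
      refine PolynomialLaw.ext (funext fun P => funext fun _ => funext fun _ => funext fun y => ?_)
      show (LinearMap.id : N'' →ₗ[Q] N'').lTensor P _ = _
      rw [LinearMap.lTensor_id]
      rfl
    refine (huniq _ ?_).trans (huniq _ h1).symm
    refine PolynomialLaw.ext (funext fun P => funext fun _ => funext fun _ => funext fun y => ?_)
    let _ : Algebra R P := ((algebraMap Q P).comp (algebraMap R Q)).toAlgebra
    have : IsScalarTower R Q P := IsScalarTower.of_algebraMap_eq fun _ => rfl
    obtain ⟨m, rfl⟩ := (bsE hg P).surjective y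
    show ((u.liftBaseChange Q) ∘ₗ φ).lTensor P (ν''.toFun' P (bs (Q := Q) _ P m)) =
      ν''.toFun' P (bs (Q := Q) _ P m)
    rw [LinearMap.lTensor_comp, LinearMap.comp_apply,
      show φ.lTensor P (ν''.toFun' P (bs (Q := Q) (f.restrictScalars R) P m)) =
        (lam ν hg).toFun' P (bs (Q := Q) (f.restrictScalars R) P m) by rw [← hφ]; rfl,
      lam_apply, hcompat]
    generalize ν.toFun' P m = z
    induction z using TensorProduct.induction_on with
    | zero => simp
    | tmul p n => simp
    | add a b ha hb => simp only [map_add, ha, hb]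
  have hμn : IsNormic R' (postcomp (TensorProduct.mk R Q N 1) ν) := by
    intro P _ _ x m
    show (TensorProduct.mk R Q N 1).lTensor P (ν.toFun' P _) =
      _ • (TensorProduct.mk R Q N 1).lTensor P (ν.toFun' P m)
    rw [hν.1]
    generalize ν.toFun' P m = z
    induction z using TensorProduct.induction_on with
    | zero => simp
    | tmul p n => simp [TensorProduct.smul_tmul']
    | add a b ha hb => simp only [smul_add, map_add, ha, hb]
  have hbase : (φ.restrictScalars R) ∘ₗ u = TensorProduct.mk R Q N 1 := by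
    obtain ⟨φ₁, -, huq⟩ := hν.2 _ _ hμn
    refine (huq _ ?_).trans (huq _ rfl).symm
    refine PolynomialLaw.ext (funext fun P => funext fun _ => funext fun _ => funext fun m => ?_)
    show ((φ.restrictScalars R) ∘ₗ u).lTensor P (ν.toFun' P m) =
      (TensorProduct.mk R Q N 1).lTensor P (ν.toFun' P m)
    rw [LinearMap.lTensor_comp, LinearMap.comp_apply,
      show u.lTensor P (ν.toFun' P m) = (mu f ν'').toFun' P m by rw [← hu]; rfl]
    show (φ.restrictScalars R).lTensor P (rho N'' P _) = _
    rw [rho_lTensor]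
    set ι : P →ₐ[R] Q ⊗[R] P := Algebra.TensorProduct.includeRight with hι
    rw [show φ.lTensor (Q ⊗[R] P) (ν''.toFun' (Q ⊗[R] P) (bs (Q := Q) (f.restrictScalars R) _
        (ι.toLinearMap.rTensor M' m))) =
      (lam ν hg).toFun' (Q ⊗[R] P) (bs (Q := Q) (f.restrictScalars R) _ (ι.toLinearMap.rTensor M' m)) by
      rw [← hφ]; rfl, lam_apply, ← Function.comp_apply (f := ν.toFun' _), ← ν.isCompat',
      Function.comp_apply]
    generalize ν.toFun' P m = z
    induction z using TensorProduct.induction_on with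
    | zero => simp
    | tmul p n => simp [hι]
    | add a b ha hb => simp only [map_add, ha, hb]
  refine IsBaseChange.of_equiv (LinearEquiv.ofLinearMap (u.liftBaseChange Q) φ hid ?_) fun n => ?_
  · refine TensorProduct.AlgebraTensorModule.ext fun q n => ?_
    simp only [LinearMap.comp_apply, LinearMap.liftBaseChange_tmul, map_smul, LinearMap.id_apply]
    rw [show φ (u n) = (1 : Q) ⊗ₜ[R] n from LinearMap.congr_fun hbase n,
      TensorProduct.smul_tmul', smul_eq_mul, mul_one]
  · simp

end Groth.Agent.H23.NormicBC
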